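import Groth.Agent.SmoothReg.Field
import Mathlib

/-! Smoothness at regular points over the generic point of a domain with perfect fraction field. -/

set_option autoImplicit false
set_option linter.style.haveILetI false

open TensorProduct

namespace Groth.Agent.RelPC13.Smooth

universe u

attribute [local instance] Algebra.TensorProduct.rightAlgebra in
theorem isSmoothAt_of_regular_generic {R A : Type u} [CommRing R] [IsDomain R] [CommRing A] [Algebra R A]
    [Algebra.FiniteType R A] (K : Type u) [Field K] [Algebra R K] [IsFractionRing R K] [PerfectField K]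
    (q : Ideal A) [q.IsPrime] (hq : ∀ r : R, r ≠ 0 → algebraMap R A r ∉ q)
    [IsRegularLocalRing (Localization.AtPrime q)] : Algebra.IsSmoothAt R q := by
  let S := Localization.AtPrime q
  have hu : ∀ r : nonZeroDivisors R, IsUnit (algebraMap R S r) := fun r => by
    rw [IsScalarTower.algebraMap_apply R A S, IsLocalization.AtPrime.isUnit_to_map_iff S q]
    exact hq r (nonZeroDivisors.ne_zero r.2)
  letI : Algebra K S := (IsLocalization.lift (M := nonZeroDivisors R) hu).toAlgebra
  haveI : IsScalarTower R K S := IsScalarTower.of_algebraMap_eq fun r => (IsLocalization.lift_eq hu r).symm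
  let φ : K ⊗[R] A →ₐ[K] S :=
    Algebra.TensorProduct.lift (Algebra.ofId K S) (IsScalarTower.toAlgHom R A S) (fun _ _ => mul_comm _ _)
  haveI : IsLocalization (Algebra.algebraMapSubmonoid A (nonZeroDivisors R)) (K ⊗[R] A) :=
    IsLocalization.tensorRight (S := A) (A := K) (nonZeroDivisors R)
  let p : Ideal (K ⊗[R] A) := (IsLocalRing.maximalIdeal S).comap φ
  haveI : p.IsPrime := inferInstanceAs (Ideal.comap φ _).IsPrime
  let T := Localization.AtPrime p
  have hpq : p.comap (algebraMap A (K ⊗[R] A)) = q := by
    rw [← IsLocalization.AtPrime.comap_maximalIdeal S q]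
    ext a
    show φ ((1 : K) ⊗ₜ[R] a) ∈ IsLocalRing.maximalIdeal S ↔ algebraMap A S a ∈ IsLocalRing.maximalIdeal S
    rw [show φ ((1 : K) ⊗ₜ[R] a) = algebraMap A S a from
      (Algebra.TensorProduct.lift_tmul _ _ _ (1 : K) a).trans (by rw [map_one, one_mul]; rfl)]
  haveI : IsScalarTower R A T := IsScalarTower.of_algebraMap_eq fun r => by
    rw [IsScalarTower.algebraMap_apply A (K ⊗[R] A) T, IsScalarTower.algebraMap_apply R (K ⊗[R] A) T]
    congr 1
    exact IsScalarTower.algebraMap_apply R A (K ⊗[R] A) r
  haveI hloc : IsLocalization.AtPrime T q := by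
    have h := IsLocalization.isLocalization_isLocalization_atPrime_isLocalization
      (Algebra.algebraMapSubmonoid A (nonZeroDivisors R)) T p
    simp only [hpq] at h
    exact h
  let e : S ≃ₐ[A] T := IsLocalization.algEquiv q.primeCompl S T
  haveI : IsRegularLocalRing T := IsRegularLocalRing.of_ringEquiv e.toRingEquiv
  haveI : Algebra.FormallySmooth K T := (SmoothReg.isSmoothAt_iff_isRegularLocalRing (k := K) p).mpr ‹_›
  haveI : Algebra.FormallySmooth R K := Algebra.FormallySmooth.of_isLocalization (nonZeroDivisors R)
  haveI : Algebra.FormallySmooth R T := Algebra.FormallySmooth.comp R K T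
  exact Algebra.FormallySmooth.of_equiv (e.restrictScalars R).symm

end Groth.Agent.RelPC13.Smooth
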